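import Cfsg.Agent.Lib.Helper4.Orb.HSx.Trans
import Cfsg.Agent.Lib.Helper4.Orb.HS.Main

set_option autoImplicit false
set_option linter.style.haveILetI false
set_option linter.unusedVariables false
set_option linter.unusedSectionVars false

/-! The joint stabiliser of `v, w` of the Higman–Sims configuration and one of the 100 vectors:
the 22 and the 77 other vectors. -/

namespace Cfsg.Agent.Helper4.CO.HSx

open Cfsg Cfsg.Agent.Helper4.CO

theorem anc0_eq : anc0 = HS.anc0 := by decide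

theorem anc1_eq : anc1 = HS.anc1 := by decide

theorem anc2_mem : mkL anc2 anc2_in ∈ statSet 32 HS.anc0 HS.anc1 HS.anc2 (24, -24, 0) :=
  mem_statSet_mkL 32 HS.anc0 HS.anc1 HS.anc2 (24, -24, 0) HS.anc0_in.1 HS.anc1_in.1
    HS.anc2_in.1 anc2 anc2_in (by decide) (by decide)

theorem exists_based (v w x : leechLattice) (hv : sqNorm (v : GolayPt → ℤ) = 48)
    (hw : sqNorm (w : GolayPt → ℤ) = 48)
    (hvw : dotInt (v : GolayPt → ℤ) (w : GolayPt → ℤ) = -32)
    (hx : x ∈ dotSet 32 v w 0 (24, -24, 0)) :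
    ∃ h : Co0, Based h v w x anc0 anc1 anc2 := by
  obtain ⟨h, hb⟩ := HS.exists_based v w hv hw hvw
  obtain ⟨h', hb'⟩ := hb.extend3 HS.transH anc2 anc2_in anc2_mem hx
  exact ⟨h', hb'.congr anc0_eq.symm anc1_eq.symm rfl⟩

theorem card_D (v w x : leechLattice) (hv : sqNorm (v : GolayPt → ℤ) = 48)
    (hw : sqNorm (w : GolayPt → ℤ) = 48)
    (hvw : dotInt (v : GolayPt → ℤ) (w : GolayPt → ℤ) = -32)
    (hx : x ∈ dotSet 32 v w 0 (24, -24, 0)) :
    (dotSet 32 v w x (24, -24, 8)).ncard = 22 := by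
  obtain ⟨h, hb⟩ := exists_based v w x hv hw hvw hx
  rw [hb.ncard anc0_in.1 anc1_in.1 anc2_in.1, countD]

theorem card_E (v w x : leechLattice) (hv : sqNorm (v : GolayPt → ℤ) = 48)
    (hw : sqNorm (w : GolayPt → ℤ) = 48)
    (hvw : dotInt (v : GolayPt → ℤ) (w : GolayPt → ℤ) = -32)
    (hx : x ∈ dotSet 32 v w 0 (24, -24, 0)) :
    (dotSet 32 v w x (24, -24, 16)).ncard = 77 := by
  obtain ⟨h, hb⟩ := exists_based v w x hv hw hvw hx
  rw [hb.ncard anc0_in.1 anc1_in.1 anc2_in.1, countE]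

theorem trans_D (v w x : leechLattice) (hv : sqNorm (v : GolayPt → ℤ) = 48)
    (hw : sqNorm (w : GolayPt → ℤ) = 48)
    (hvw : dotInt (v : GolayPt → ℤ) (w : GolayPt → ℤ) = -32)
    (hx : x ∈ dotSet 32 v w 0 (24, -24, 0)) {y y' : leechLattice}
    (hy : y ∈ dotSet 32 v w x (24, -24, 8)) (hy' : y' ∈ dotSet 32 v w x (24, -24, 8)) :
    ∃ g : Co0, g • v = v ∧ g • w = w ∧ g • x = x ∧ g • y = y' := by
  obtain ⟨h, hb⟩ := exists_based v w x hv hw hvw hx
  exact hb.trans transD hy hy'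

theorem trans_E (v w x : leechLattice) (hv : sqNorm (v : GolayPt → ℤ) = 48)
    (hw : sqNorm (w : GolayPt → ℤ) = 48)
    (hvw : dotInt (v : GolayPt → ℤ) (w : GolayPt → ℤ) = -32)
    (hx : x ∈ dotSet 32 v w 0 (24, -24, 0)) {y y' : leechLattice}
    (hy : y ∈ dotSet 32 v w x (24, -24, 16)) (hy' : y' ∈ dotSet 32 v w x (24, -24, 16)) :
    ∃ g : Co0, g • v = v ∧ g • w = w ∧ g • x = x ∧ g • y = y' := by
  obtain ⟨h, hb⟩ := exists_based v w x hv hw hvw hx
  exact hb.trans transE hy hy'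

end Cfsg.Agent.Helper4.CO.HSx
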