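import Cfsg.Agent.Lib.Helper4.CoOrbit

set_option autoImplicit false
set_option linter.style.haveILetI false
set_option linter.unusedVariables false
set_option linter.unusedSectionVars false
set_option Elab.async false

/-! Generators of a stabiliser (generated data). -/

namespace Cfsg.Agent.Helper4.CO.HSx

open Cfsg Cfsg.Agent.Helper4.CO

/-- anchor -/
def anc0 : List ℤ := [5, 1, 1, 1, 1, 1, 1, 1, 1, 1, 1, 1, 1, 1, 1, 1, 1, 1, 1, 1, 1, 1, 1, 1]

theorem anc0_in : InLP anc0 := by decide +kernel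

/-- anchor -/
def anc1 : List ℤ := [-1, -5, -1, -1, -1, -1, -1, -1, -1, -1, -1, -1, -1, -1, -1, -1, -1, -1, -1, -1, -1, -1, -1, -1]

theorem anc1_in : InLP anc1 := by decide +kernel

/-- anchor -/
def anc2 : List ℤ := [4, 4, 0, 0, 0, 0, 0, 0, 0, 0, 0, 0, 0, 0, 0, 0, 0, 0, 0, 0, 0, 0, 0, 0]

theorem anc2_in : InLP anc2 := by decide +kernel

/-- the anchors -/
def anchors : List (List ℤ) := [anc0, anc1, anc2]

/-- generator -/
def g0 : Gen := Gen.mono [0, 1, 16, 12, 2, 15, 6, 21, 17, 8, 9, 7, 14, 23, 18, 11, 13, 20, 19, 3, 10, 5, 22, 4] [1, 1, 1, 1, 1, 1, 1, 1, 1, 1, 1, 1, 1, 1, 1, 1, 1, 1, 1, 1, 1, 1, 1, 1]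

set_option maxRecDepth 1000000 in
theorem g0_good : g0.Good := by decide +kernel

/-- generator -/
def g1 : Gen := Gen.mono [0, 1, 22, 19, 21, 7, 23, 16, 15, 9, 18, 8, 11, 17, 3, 10, 6, 5, 20, 4, 12, 2, 14, 13] [1, 1, 1, 1, 1, 1, 1, 1, 1, 1, 1, 1, 1, 1, 1, 1, 1, 1, 1, 1, 1, 1, 1, 1]

set_option maxRecDepth 1000000 in
theorem g1_good : g1.Good := by decide +kernel

/-- generator -/
def g2 : Gen := Gen.mono [0, 1, 15, 23, 20, 16, 17, 10, 3, 18, 2, 13, 9, 5, 6, 22, 21, 11, 4, 12, 7, 8, 19, 14] [1, 1, 1, 1, 1, 1, 1, 1, 1, 1, 1, 1, 1, 1, 1, 1, 1, 1, 1, 1, 1, 1, 1, 1]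

set_option maxRecDepth 1000000 in
theorem g2_good : g2.Good := by decide +kernel

/-- the generators -/
def gens : List Gen := [g0, g1, g2]

set_option maxRecDepth 1000000 in
theorem gensOK : GensOK anchors gens := by
  refine ⟨by decide, ?_⟩
  intro A hA
  simp only [gens, List.mem_cons, List.not_mem_nil, or_false] at hA
  rcases hA with rfl | rfl | rfl
  · exact ⟨g0_good, by decide, by decide +kernel⟩
  · exact ⟨g1_good, by decide, by decide +kernel⟩
  · exact ⟨g2_good, by decide, by decide +kernel⟩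

end Cfsg.Agent.Helper4.CO.HSx
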