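import Cfsg.Agent.Lib.Helper4.CoOrbitCount
import Cfsg.Agent.Lib.Helper4.Orb.HSx.Cfg

set_option autoImplicit false
set_option linter.style.haveILetI false
set_option linter.unusedVariables false
set_option linter.unusedSectionVars false
set_option Elab.async false

/-! A count of vectors with prescribed inner products (kernel computation). -/

namespace Cfsg.Agent.Helper4.CO.HSx

open Cfsg Cfsg.Agent.Helper4.CO

set_option maxRecDepth 1000000 in
theorem countD_p : part1 anc0 anc1 anc2 (24, -24, 8) = 0 := by decide +kernel

set_option maxRecDepth 1000000 in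
theorem countD_b0 : partB anc0 anc1 anc2 (24, -24, 8) 0 = 0 := by decide +kernel

set_option maxRecDepth 1000000 in
theorem countD_b1 : partB anc0 anc1 anc2 (24, -24, 8) 1 = 0 := by decide +kernel

set_option maxRecDepth 1000000 in
theorem countD_b2 : partB anc0 anc1 anc2 (24, -24, 8) 2 = 0 := by decide +kernel

set_option maxRecDepth 1000000 in
theorem countD_b3 : partB anc0 anc1 anc2 (24, -24, 8) 3 = 0 := by decide +kernel

set_option maxRecDepth 1000000 in
theorem countD_b4 : partB anc0 anc1 anc2 (24, -24, 8) 4 = 0 := by decide +kernel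

set_option maxRecDepth 1000000 in
theorem countD_b5 : partB anc0 anc1 anc2 (24, -24, 8) 5 = 0 := by decide +kernel

set_option maxRecDepth 1000000 in
theorem countD_b6 : partB anc0 anc1 anc2 (24, -24, 8) 6 = 0 := by decide +kernel

set_option maxRecDepth 1000000 in
theorem countD_b7 : partB anc0 anc1 anc2 (24, -24, 8) 7 = 0 := by decide +kernel

set_option maxRecDepth 1000000 in
theorem countD_b8 : partB anc0 anc1 anc2 (24, -24, 8) 8 = 0 := by decide +kernel

set_option maxRecDepth 1000000 in
theorem countD_b9 : partB anc0 anc1 anc2 (24, -24, 8) 9 = 0 := by decide +kernel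

set_option maxRecDepth 1000000 in
theorem countD_b10 : partB anc0 anc1 anc2 (24, -24, 8) 10 = 0 := by decide +kernel

set_option maxRecDepth 1000000 in
theorem countD_b11 : partB anc0 anc1 anc2 (24, -24, 8) 11 = 0 := by decide +kernel

set_option maxRecDepth 1000000 in
theorem countD_b12 : partB anc0 anc1 anc2 (24, -24, 8) 12 = 0 := by decide +kernel

set_option maxRecDepth 1000000 in
theorem countD_b13 : partB anc0 anc1 anc2 (24, -24, 8) 13 = 0 := by decide +kernel

set_option maxRecDepth 1000000 in
theorem countD_b14 : partB anc0 anc1 anc2 (24, -24, 8) 14 = 0 := by decide +kernel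

set_option maxRecDepth 1000000 in
theorem countD_b15 : partB anc0 anc1 anc2 (24, -24, 8) 15 = 22 := by decide +kernel

theorem countD : fast32 anc0 anc1 anc2 (24, -24, 8) = 22 := by
  rw [fast32_parts, countD_p, countD_b0, countD_b1, countD_b2, countD_b3, countD_b4, countD_b5, countD_b6, countD_b7, countD_b8, countD_b9, countD_b10, countD_b11, countD_b12, countD_b13, countD_b14, countD_b15]

end Cfsg.Agent.Helper4.CO.HSx
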