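import Cfsg.Agent.Lib.Helper4.CoOrbitCount
import Cfsg.Agent.Lib.Helper4.Orb.HSx.Cfg

set_option autoImplicit false
set_option linter.style.haveILetI false
set_option linter.unusedVariables false
set_option linter.unusedSectionVars false
set_option Elab.async false

/-! A count of vectors with prescribed inner products (kernel computation). -/

namespace Cfsg.Agent.Helper4.CO.HSx

open Cfsg Cfsg.Agent.Helper4.CO

set_option maxRecDepth 1000000 in
theorem countE_p : part1 anc0 anc1 anc2 (24, -24, 16) = 0 := by decide +kernel

set_option maxRecDepth 1000000 in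
theorem countE_b0 : partB anc0 anc1 anc2 (24, -24, 16) 0 = 0 := by decide +kernel

set_option maxRecDepth 1000000 in
theorem countE_b1 : partB anc0 anc1 anc2 (24, -24, 16) 1 = 0 := by decide +kernel

set_option maxRecDepth 1000000 in
theorem countE_b2 : partB anc0 anc1 anc2 (24, -24, 16) 2 = 0 := by decide +kernel

set_option maxRecDepth 1000000 in
theorem countE_b3 : partB anc0 anc1 anc2 (24, -24, 16) 3 = 0 := by decide +kernel

set_option maxRecDepth 1000000 in
theorem countE_b4 : partB anc0 anc1 anc2 (24, -24, 16) 4 = 0 := by decide +kernel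

set_option maxRecDepth 1000000 in
theorem countE_b5 : partB anc0 anc1 anc2 (24, -24, 16) 5 = 0 := by decide +kernel

set_option maxRecDepth 1000000 in
theorem countE_b6 : partB anc0 anc1 anc2 (24, -24, 16) 6 = 0 := by decide +kernel

set_option maxRecDepth 1000000 in
theorem countE_b7 : partB anc0 anc1 anc2 (24, -24, 16) 7 = 0 := by decide +kernel

set_option maxRecDepth 1000000 in
theorem countE_b8 : partB anc0 anc1 anc2 (24, -24, 16) 8 = 0 := by decide +kernel

set_option maxRecDepth 1000000 in
theorem countE_b9 : partB anc0 anc1 anc2 (24, -24, 16) 9 = 0 := by decide +kernel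

set_option maxRecDepth 1000000 in
theorem countE_b10 : partB anc0 anc1 anc2 (24, -24, 16) 10 = 0 := by decide +kernel

set_option maxRecDepth 1000000 in
theorem countE_b11 : partB anc0 anc1 anc2 (24, -24, 16) 11 = 0 := by decide +kernel

set_option maxRecDepth 1000000 in
theorem countE_b12 : partB anc0 anc1 anc2 (24, -24, 16) 12 = 40 := by decide +kernel

set_option maxRecDepth 1000000 in
theorem countE_b13 : partB anc0 anc1 anc2 (24, -24, 16) 13 = 16 := by decide +kernel

set_option maxRecDepth 1000000 in
theorem countE_b14 : partB anc0 anc1 anc2 (24, -24, 16) 14 = 16 := by decide +kernel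

set_option maxRecDepth 1000000 in
theorem countE_b15 : partB anc0 anc1 anc2 (24, -24, 16) 15 = 5 := by decide +kernel

theorem countE : fast32 anc0 anc1 anc2 (24, -24, 16) = 77 := by
  rw [fast32_parts, countE_p, countE_b0, countE_b1, countE_b2, countE_b3, countE_b4, countE_b5, countE_b6, countE_b7, countE_b8, countE_b9, countE_b10, countE_b11, countE_b12, countE_b13, countE_b14, countE_b15]

end Cfsg.Agent.Helper4.CO.HSx
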