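import Cfsg.Agent.Lib.Helper4.Orb.HSx.CfgD

set_option autoImplicit false
set_option linter.style.haveILetI false
set_option linter.unusedVariables false
set_option linter.unusedSectionVars false
set_option Elab.async false

/-! Orbit certificate chunks (generated data). -/

namespace Cfsg.Agent.Helper4.CO.HSx

open Cfsg Cfsg.Agent.Helper4.CO

/-- instructions -/
def tapeD0 : List ℕ := splitN 96 2
  0x220011300300201120003001130032003020111f

/-- packed keys -/
def numD0 : ℕ :=
  0x999999999999999999999599999999999999999999959999599999999999999999999999999999999959999999999999999999999999999995999999999999999999999999995999999959999999999999999999959999999999999999999999999995999999999999999999999999999599999999999999999999999995999999999999999999999999995999999999995999999999999999999999999999999999999959999999999999999999599999999999999999999999999999599999999999959999999999999999999999999999959999999999999599999999999999999999999999599999999999999999999999995999999999999999999999999999999599999999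

set_option maxRecDepth 1000000 in
theorem okD0 : chunkOK gens startD tapeD0 (splitN 96 22 numD0) = true := by decide +kernel

end Cfsg.Agent.Helper4.CO.HSx
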