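import Cfsg.Agent.Lib.Helper4.CoNodup
import Cfsg.Agent.Lib.Helper4.Orb.HSx.DF0

set_option autoImplicit false
set_option linter.style.haveILetI false
set_option linter.unusedVariables false
set_option linter.unusedSectionVars false

/-! Orbit certificate assembly (generated data). -/

namespace Cfsg.Agent.Helper4.CO.HSx

open Cfsg Cfsg.Agent.Helper4.CO

/-- the full chunks -/
def tnD : List (List ℕ × ℕ) :=
  []

/-- the chunks -/
def chunksD : List (List ℕ × List ℕ) := mkChunks 2000 tnD tapeD0 22 numD0

theorem chunksD_ok : ∀ ch ∈ chunksD, chunkOK gens startD ch.1 ch.2 = true := by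
  apply mem_mkChunks
  · intro p hp
    simp [tnD] at hp
  · exact okD0

/-- positions in increasing order of the keys -/
def sigmaD : List ℕ := flatW 17 2000
  []
  22 0x2a0010000a00018002200080000000280008000700058004800180001000280008001a000f000180024001c0013

set_option maxRecDepth 1000000 in
theorem certD : certOK 2000 (tnD.map fun p => p.2) 22 numD0 sigmaD = true := by
  decide +kernel

theorem chunksD_nd : (chunksD.flatMap fun ch => ch.2).Nodup :=
  nodup_mkChunks 2000 tnD tapeD0 22 numD0 sigmaD certD

theorem chunksD_len : (chunksD.flatMap fun ch => ch.2).length = 22 := by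
  unfold chunksD
  rw [length_mkChunks]
  decide

end Cfsg.Agent.Helper4.CO.HSx
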