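import Cfsg.Agent.Lib.Helper4.Orb.HSx.CfgE

set_option autoImplicit false
set_option linter.style.haveILetI false
set_option linter.unusedVariables false
set_option linter.unusedSectionVars false
set_option Elab.async false

/-! Orbit certificate chunks (generated data). -/

namespace Cfsg.Agent.Helper4.CO.HSx

open Cfsg Cfsg.Agent.Helper4.CO

/-- instructions -/
def tapeE0 : List ℕ := splitN 96 7
  0x3300201130003300320031130000201300113000201302200020130200311200002300033200200311300030011300301200300220112000013003011300300301220030030120031111f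

/-- packed keys -/
def numE0 : ℕ :=
  0xa888aaa8a8a88888888888aa88888a8a8aa8888a88a888aa88a8888a8a8a88a888888aaa88888888888a8a88a88aaaaaa88aa8888888a888888aa8aa8a888aa88888888a888aa8aa88aaa888aa88888888a888aa88a88aa8888a8888a8a888aaaa88888a88a88888888a8aaa888aaa8888888a8aa88888aa8aaa8888888888a8a88a88aa8888aa88888888a888aa8aaaa8a88a888a888a88888a88aa8a888a8888aa8aa8888888aa888a8a8aa88a8888888a88aaa888a88a888a8a8888a888aa88aa8a8888a888888888aaaa8888a8aa8a888888a88a88aa8888888a8888aaaa888a88aa8a88a88888a88888a8a8a8aa8aa8aa8a8888a888888888aaaa8888a88888aa88a88888aa8a8a8888a8a8a88a888888aa8a8888aaa88888a888a888aaa8888a88888aa88a88888aaa88aa8888888aaa888a8888aa88a888a8a888a888888a8aaa88888888a8aa88888aa88aaa88a8888a888888888aaaa8aa8888a8888aa8aa8888888aaa888a88a8a8888888aa88a8aa8888a8a88888a88a8aa888aa88a88a88a88888aa8a8888aa888a88888a88888a8a8a8aaaa8a8888888a8a8a888a888aa88a8888aa8a88a88a88888aa888a888a8888a888a8a88aaa888a88a888a88a8888aa88aaa8888888a888888aa8aa88aaa88888a8888a88a88a8a88aa88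88aa888a8a88888a88a8aaaa88a8888a8888aa888888aa888888aa88aaa8888888a8aaa88a88888aaa8888a88888aaa888888888a88a8a8a88a8aa888aa88a88a888a88a8888aa88888aaa88888a888a888aaa888888888a888aa8aaa888aaa8888a8a888888a8a888a8aa8a8888888a8aa88888aa88aaaaa88888a88a88888888a8aa8a8aa8a8888a888888888aaaa888888aaa88a8888a8888aa8a88888a888a888aaa8888aaa88888a88a88888888a8aaaa88a8a88888aa888a888a88aa8aa888a88aa888888a8888aa88a888888a88a88aa888a8aa8888a888a88aa8a8a88888aa88888a88a888aa8888a8a8aaa8aa88aa8888888a888888aa888888a888a888aaa8888aaa88888a8888a8a888aa8a88aa8a8888888888a8a88a88aaaa8a88a888a8888a888a8a88aaaa8a8a88888888888aa888aa88888888aaa888a8888aa8aa8888a88aa888888a8888aaaa8aa8888888888a8a88a88aaa8a888a88aa888888a8888aaaa88a8888a8888aa888888aaa888888a8aa8a8a8a888888aa888a8888888a88aa88a8a8aa88a8a8a888888aa88888a8aa888a8aa88a88a8a8888888aaa8a8a88888888888aa888aaa8a8a888a8a888a888888a8aa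

set_option maxRecDepth 1000000 in
theorem okE0 : chunkOK gens startE tapeE0 (splitN 96 77 numE0) = true := by decide +kernel

end Cfsg.Agent.Helper4.CO.HSx
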