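import Cfsg.Agent.Lib.Helper4.CoNodup
import Cfsg.Agent.Lib.Helper4.Orb.HSx.EF0

set_option autoImplicit false
set_option linter.style.haveILetI false
set_option linter.unusedVariables false
set_option linter.unusedSectionVars false

/-! Orbit certificate assembly (generated data). -/

namespace Cfsg.Agent.Helper4.CO.HSx

open Cfsg Cfsg.Agent.Helper4.CO

/-- the full chunks -/
def tnE : List (List ℕ × ℕ) :=
  []

/-- the chunks -/
def chunksE : List (List ℕ × List ℕ) := mkChunks 2000 tnE tapeE0 77 numE0

theorem chunksE_ok : ∀ ch ∈ chunksE, chunkOK gens startE ch.1 ch.2 = true := by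
  apply mem_mkChunks
  · intro p hp
    simp [tnE] at hp
  · exact okE0

/-- positions in increasing order of the keys -/
def sigmaE : List ℕ := flatW 17 2000
  []
  77 0x1a00058008c006e00440008000040080002a0024000180042004c001e8007000680016001280060004c00200021000e000280008000c80000006c000c001c8011c000e003f001a8005c0036000d0023000f000660003000a80114005800320014801280060001300218007c0004003e00170009c0050002b0002000900082003b0016800240024002f000f0012c0022000e001100014001e003a0005000c4003a0049

set_option maxRecDepth 1000000 in
theorem certE : certOK 2000 (tnE.map fun p => p.2) 77 numE0 sigmaE = true := by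
  decide +kernel

theorem chunksE_nd : (chunksE.flatMap fun ch => ch.2).Nodup :=
  nodup_mkChunks 2000 tnE tapeE0 77 numE0 sigmaE certE

theorem chunksE_len : (chunksE.flatMap fun ch => ch.2).length = 77 := by
  unfold chunksE
  rw [length_mkChunks]
  decide

end Cfsg.Agent.Helper4.CO.HSx
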