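import Cfsg.Agent.Lib.Helper4.Orb.HSx.D
import Cfsg.Agent.Lib.Helper4.Orb.HSx.CountD
import Cfsg.Agent.Lib.Helper4.Orb.HSx.E
import Cfsg.Agent.Lib.Helper4.Orb.HSx.CountE

set_option autoImplicit false
set_option linter.style.haveILetI false
set_option linter.unusedVariables false
set_option linter.unusedSectionVars false

/-! Transitivity of a stabiliser on sets of vectors with prescribed inner products. -/

namespace Cfsg.Agent.Helper4.CO.HSx

open Cfsg Cfsg.Agent.Helper4.CO

theorem ncardD : (statSet 32 anc0 anc1 anc2 (24, -24, 8)).ncard = (chunksD.flatMap fun ch => ch.2).length := by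
  rw [chunksD_len, ncard_statSet anc0 anc1 anc2 anc0_in.1 anc1_in.1 anc2_in.1, countD]

theorem transD : ∀ x ∈ statSet 32 anc0 anc1 anc2 (24, -24, 8), ∀ y ∈ statSet 32 anc0 anc1 anc2 (24, -24, 8),
    ∃ g : Co0, (∀ a ∈ anchors, FixL g a) ∧ g • x = y :=
  orbit_trans' anchors gens gensOK startD startD_in (by decide) _
    (mem_statSet_mkL 32 anc0 anc1 anc2 (24, -24, 8) anc0_in.1 anc1_in.1 anc2_in.1 startD startD_in
      (by decide) (by decide))
    (statSet_inv 32 anc0 anc1 anc2 (24, -24, 8) anc0_in anc1_in anc2_in) chunksD chunksD_ok chunksD_nd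
    ncardD (Set.finite_of_ncard_ne_zero (by rw [ncardD, chunksD_len]; norm_num))

theorem ncardE : (statSet 32 anc0 anc1 anc2 (24, -24, 16)).ncard = (chunksE.flatMap fun ch => ch.2).length := by
  rw [chunksE_len, ncard_statSet anc0 anc1 anc2 anc0_in.1 anc1_in.1 anc2_in.1, countE]

theorem transE : ∀ x ∈ statSet 32 anc0 anc1 anc2 (24, -24, 16), ∀ y ∈ statSet 32 anc0 anc1 anc2 (24, -24, 16),
    ∃ g : Co0, (∀ a ∈ anchors, FixL g a) ∧ g • x = y :=
  orbit_trans' anchors gens gensOK startE startE_in (by decide) _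
    (mem_statSet_mkL 32 anc0 anc1 anc2 (24, -24, 16) anc0_in.1 anc1_in.1 anc2_in.1 startE startE_in
      (by decide) (by decide))
    (statSet_inv 32 anc0 anc1 anc2 (24, -24, 16) anc0_in anc1_in anc2_in) chunksE chunksE_ok chunksE_nd
    ncardE (Set.finite_of_ncard_ne_zero (by rw [ncardE, chunksE_len]; norm_num))

end Cfsg.Agent.Helper4.CO.HSx
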